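import Groth.Agent.Lib.TensStalk24.Stalk
import Groth.Agent.Lib.EtShriek24.StalkSum

/-!
# The projection formula for direct images with proper support along separated quasi-finite morphisms
-/

universe u

open CategoryTheory CategoryTheory.Limits AlgebraicGeometry Opposite TensorProduct

set_option backward.isDefEq.respectTransparency.types false

namespace Groth.Agent.TensStalk24

open Groth.Agent.EtStalk Groth.Agent.EtShriek24 Groth.Agent.Weight

variable {X Y : Scheme.{u}} (f : X ⟶ Y) [LocallyOfFiniteType f] (F : EtCoh.Ab X) (G : EtCoh.Ab Y)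

/-- The sheaf on the source. -/
noncomputable abbrev src : EtCoh.Ab X := ten F ((EtCoh.pull f).obj G)

/-- The product of a section with proper support and a section downstairs. -/
noncomputable def prodSec (V : Y.Etale) (s : F.obj.obj (op ((EtCoh.bc f).obj V))) (g : G.obj.obj (op V)) :
    (src f F G).obj.obj (op ((EtCoh.bc f).obj V)) :=
  (eta F ((EtCoh.pull f).obj G)).app (op ((EtCoh.bc f).obj V))
    (s ⊗ₜ ((EtCoh.pullPushAdj f).unit.app G).hom.app (op V) g)

theorem prodSec_mem (V : Y.Etale) (s : F.obj.obj (op ((EtCoh.bc f).obj V))) (g : G.obj.obj (op V))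
    (hs : s ∈ EtShriek.shriekSubgroup f F V) :
    prodSec f F G V s g ∈ EtShriek.shriekSubgroup f (src f F G) V := by
  rw [mem_shriekSubgroup_iff] at hs ⊢
  haveI : LocallyOfFiniteType (EtShriek.prV f V) := inferInstanceAs (LocallyOfFiniteType (pullback.fst V.hom f))
  have hsub : EtShriek.sectSupp (src f F G) _ (prodSec f F G V s g) ⊆ EtShriek.sectSupp F _ s :=
    fun x hx W m hw h0 => hx W m hw ?_
  · exact ClSub24.isProperOver_subset (EtShriek.prV f V) hsub (isClosed_sectSupp _ _ _) hs
  refine (NatTrans.naturality_apply (eta F ((EtCoh.pull f).obj G)) m.op _).symm.trans ?_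
  refine (congrArg _ ((EtTens.tensorObj_map_tmul _ _ m.op s _).trans
    ((congrArg (· ⊗ₜ _) h0).trans (zero_tmul _ _)))).trans ?_
  exact map_zero _

/-- The product as a map out of the tensor product. -/
noncomputable def prodHom (V : Y.Etale) :
    ((shFunctor f).obj F).obj.obj (op V) ⊗[ℤ] G.obj.obj (op V) →+
      EtShriek.shriekSubgroup f (src f F G) V :=
  TensorProduct.liftAddHom
    (AddMonoidHom.mk' (fun s => AddMonoidHom.mk'
        (fun g => ⟨prodSec f F G V s.1 g, prodSec_mem f F G V s.1 g s.2⟩)
        (fun g g' => Subtype.ext (by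
          show prodSec f F G V s.1 (g + g') = prodSec f F G V s.1 g + prodSec f F G V s.1 g'
          simp only [prodSec]
          erw [map_add, tmul_add, map_add])))
      (fun s s' => AddMonoidHom.ext fun g => Subtype.ext (by
        show prodSec f F G V (s.1 + s'.1) g = prodSec f F G V s.1 g + prodSec f F G V s'.1 g
        simp only [prodSec]
        erw [add_tmul, map_add])))
    (fun r s g => by rw [map_zsmul, AddMonoidHom.smul_apply, map_zsmul])

theorem prodHom_tmul (V : Y.Etale) (s : ((shFunctor f).obj F).obj.obj (op V)) (g : G.obj.obj (op V)) :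
    (prodHom f F G V (s ⊗ₜ g)).1 = prodSec f F G V s.1 g := rfl

/-- The projection map on presheaves. -/
noncomputable def projPre : pre ((shFunctor f).obj F) G ⟶ ((shFunctor f).obj (src f F G)).obj where
  app V := AddCommGrpCat.ofHom (prodHom f F G V.unop)
  naturality V V' φ := EtTens.hom_ext_tmul fun s g => Subtype.ext (by
    let m := (EtCoh.bc f).map φ.unop
    show prodSec f F G V'.unop (F.obj.map m.op s.1) (G.obj.map φ g) =
      (src f F G).obj.map m.op (prodSec f F G V.unop s.1 g)
    refine Eq.trans ?_ (NatTrans.naturality_apply (eta F ((EtCoh.pull f).obj G)) m.op _)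
    refine congrArg ((eta F ((EtCoh.pull f).obj G)).app _) ?_
    refine Eq.trans ?_ (EtTens.tensorObj_map_tmul _ _ m.op _ _).symm
    exact congrArg (F.obj.map m.op s.1 ⊗ₜ ·) (NatTrans.naturality_apply ((EtCoh.pullPushAdj f).unit.app G).hom φ g))

theorem exists_projection :
    ∃ Ψ : ten ((shFunctor f).obj F) G ⟶ (shFunctor f).obj (src f F G),
      ∀ (V : Y.Etale) (s : ((shFunctor f).obj F).obj.obj (op V)) (g : G.obj.obj (op V)),
        Ψ.hom.app (op V) ((eta ((shFunctor f).obj F) G).app (op V) (s ⊗ₜ g)) = prodHom f F G V (s ⊗ₜ g) := by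
  refine ⟨⟨sheafifyLift Y.smallEtaleTopology (projPre f F G) ((shFunctor f).obj (src f F G)).property⟩,
    fun V s g => ?_⟩
  exact ConcreteCategory.congr_hom (congrArg (fun α : pre ((shFunctor f).obj F) G ⟶
    ((shFunctor f).obj (src f F G)).obj => α.app (op V))
    (toSheafify_sheafifyLift Y.smallEtaleTopology (projPre f F G) ((shFunctor f).obj (src f F G)).property)) (s ⊗ₜ g)

variable {Ω : Type u} [Field Ω] [IsAlgClosed Ω] (η : Spec (CommRingCat.of Ω) ⟶ Y)

omit [LocallyOfFiniteType f] in
theorem exists_kappa (l : fLifts f η) :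
    ∃ κ : ((EtCoh.stalk η).obj G : Type (u + 1)) ≃+ (EtCoh.stalk l.1).obj ((EtCoh.pull f).obj G),
      ∀ (V : Y.Etale) (w : fib η V) (g : G.obj.obj (op V)),
        κ (germ η G w g) = germ l.1 _ (liftAt f η w l) (((EtCoh.pullPushAdj f).unit.app G).hom.app (op V) g) := by
  obtain ⟨a, rfl⟩ := l
  refine ⟨AddEquiv.ofBijective (stalkPull f a G).hom (ConcreteCategory.bijective_of_isIso _), fun V w g => ?_⟩
  refine (germ_stalkPull f a G w g).trans ?_
  refine congrArg (fun z => germ a ((EtCoh.pull f).obj G) z _) (Over.OverMorphism.ext (pullback.hom_ext ?_ ?_))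
  · exact (pullback.lift_fst _ _ _).trans (pullback.lift_fst _ _ _).symm
  · exact (pullback.lift_snd _ _ _).trans (pullback.lift_snd _ _ _).symm

variable [IsSeparated f] [LocallyQuasiFinite f]

set_option maxHeartbeats 1600000 in
open scoped Classical in
/-- The projection map is bijective on stalks. -/
theorem bijective_stalk_projection (Ψ : ten ((shFunctor f).obj F) G ⟶ (shFunctor f).obj (src f F G))
    (hΨ : ∀ (V : Y.Etale) (s : ((shFunctor f).obj F).obj.obj (op V)) (g : G.obj.obj (op V)),
      Ψ.hom.app (op V) ((eta ((shFunctor f).obj F) G).app (op V) (s ⊗ₜ g)) = prodHom f F G V (s ⊗ₜ g)) :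
    Function.Bijective ((EtCoh.stalk η).map Ψ) := by
  obtain ⟨e, he⟩ := exists_stalkTens ((shFunctor f).obj F) G η
  choose eH heH using fun l : fLifts f η => exists_stalkTens F ((EtCoh.pull f).obj G) l.1
  choose κ hκ using exists_kappa f G η
  let P := ((EtCoh.stalk η).obj ((shFunctor f).obj F) : Type (u + 1))
  let G₀ := ((EtCoh.stalk η).obj G : Type (u + 1))
  let π : ∀ l : fLifts f η, P →ₗ[ℤ] (EtCoh.stalk l.1).obj F := fun l =>
    (AddMonoidHom.mk' (fun p => phi f η F p l) fun p q => congrFun (map_add (phi f η F) p q) l).toIntLinearMap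
  let T : ∀ l : fLifts f η, ((EtCoh.stalk l.1).obj F ⊗[ℤ] G₀) ≃+ (EtCoh.stalk l.1).obj (src f F G) := fun l =>
    (TensorProduct.congr (LinearEquiv.refl ℤ _) (κ l).toIntLinearEquiv).toAddEquiv.trans (eH l).symm
  let sgl : ∀ l : fLifts f η, ((EtCoh.stalk l.1).obj F) →ₗ[ℤ] P := fun l => (single f η F l).hom.toIntLinearMap
  have hcalc : ∀ (z : P ⊗[ℤ] G₀) (l : fLifts f η),
      phi f η (src f F G) ((EtCoh.stalk η).map Ψ (e.symm z)) l = T l ((π l).rTensor G₀ z) := by
    intro z l
    induction z using TensorProduct.induction_on with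
    | zero => simp
    | tmul p q =>
      obtain ⟨V, w, s, g, rfl, rfl⟩ := exists_rep ((shFunctor f).obj F) G η p q
      conv_lhs => rw [← he, AddEquiv.symm_apply_apply]
      rw [germ_nat, hΨ]
      refine (phi_germ f η (src f F G) w _ l).trans ?_
      rw [LinearMap.rTensor_tmul]
      show _ = (eH l).symm (TensorProduct.congr (LinearEquiv.refl ℤ _) (κ l).toIntLinearEquiv (_ ⊗ₜ[ℤ] _))
      rw [TensorProduct.congr_tmul]
      show _ = (eH l).symm ((π l (germ η _ w s)) ⊗ₜ[ℤ] κ l (germ η G w g))
      rw [prodHom_tmul, AddEquiv.eq_symm_apply, prodSec, heH, hκ]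
      exact congrArg (· ⊗ₜ[ℤ] _) (phi_germ f η F w s l).symm
    | add a b ha hb =>
      rw [map_add, map_add, map_add, Pi.add_apply, ha, hb, map_add, map_add]
  have hdec : ∀ z : P ⊗[ℤ] G₀, ∃ S : Finset (fLifts f η),
      (∀ l, l ∉ S → (π l).rTensor G₀ z = 0) ∧ ∀ S', S ⊆ S' → z = ∑ l ∈ S', (sgl l).rTensor G₀ ((π l).rTensor G₀ z) := by
    intro z
    induction z using TensorProduct.induction_on with
    | zero => exact ⟨∅, fun l _ => map_zero _, fun S' _ => by simp⟩
    | tmul p q =>
      refine ⟨(phi_finite_support f η F p).toFinset, fun l hl => ?_, fun S' hS' => ?_⟩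
      · have h0 : π l p = 0 := by
          show phi f η F p l = 0
          by_contra h
          exact hl ((phi_finite_support f η F p).mem_toFinset.2 h)
        rw [LinearMap.rTensor_tmul, h0, zero_tmul]
      · simp only [LinearMap.rTensor_tmul]
        rw [← sum_tmul]
        refine congrArg (· ⊗ₜ[ℤ] q) (phi_injective f η F (funext fun l' => ?_))
        rw [map_sum, Finset.sum_apply]
        show phi f η F p l' = ∑ l ∈ S', phi f η F (single f η F l (phi f η F p l)) l'
        simp only [phi_single]
        by_cases hl : l' ∈ S'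
        · rw [Finset.sum_eq_single l' (fun b _ hb => Pi.single_eq_of_ne (Ne.symm hb) _) (fun h => absurd hl h),
            Pi.single_eq_same]
        · rw [Finset.sum_eq_zero fun b hb => Pi.single_eq_of_ne (fun h => hl (by rw [h]; exact hb)) _]
          by_contra h
          exact hl (hS' ((phi_finite_support f η F p).mem_toFinset.2 h))
    | add a b ha hb =>
      obtain ⟨S, hS, hS'⟩ := ha
      obtain ⟨R, hR, hR'⟩ := hb
      refine ⟨S ∪ R, fun l hl => ?_, fun U hU => ?_⟩
      · rw [map_add, hS l (fun h => hl (Finset.mem_union_left _ h)), hR l (fun h => hl (Finset.mem_union_right _ h)),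
          add_zero]
      · conv_lhs => rw [hS' U (Finset.union_subset_iff.1 hU).1, hR' U (Finset.union_subset_iff.1 hU).2]
        simp only [map_add, Finset.sum_add_distrib]
  constructor
  · refine (injective_iff_map_eq_zero ((EtCoh.stalk η).map Ψ).hom).2 fun y hy => ?_
    obtain ⟨z, rfl⟩ := e.symm.surjective y
    obtain ⟨S, -, hS⟩ := hdec z
    have h0 : ∀ l, (π l).rTensor G₀ z = 0 := fun l => (T l).injective (by
      rw [← hcalc, map_zero]
      exact (congrArg (fun r => phi f η (src f F G) r l) hy).trans (congrFun (map_zero _) l))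
    rw [hS S subset_rfl, Finset.sum_eq_zero fun l _ => by rw [h0, map_zero], map_zero]
  · intro q
    let S := (phi_finite_support f η (src f F G) q).toFinset
    refine ⟨e.symm (∑ l ∈ S, (sgl l).rTensor G₀ ((T l).symm (phi f η (src f F G) q l))),
      phi_injective f η (src f F G) (funext fun l' => ?_)⟩
    refine (hcalc _ l').trans ?_
    have hδ : ∀ (l : fLifts f η) (y : (EtCoh.stalk l.1).obj F ⊗[ℤ] G₀),
        (l' ≠ l → (π l').rTensor G₀ ((sgl l).rTensor G₀ y) = 0) := by
      intro l y hne
      induction y using TensorProduct.induction_on with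
      | zero => rw [map_zero, map_zero]
      | tmul p r =>
        rw [LinearMap.rTensor_tmul, LinearMap.rTensor_tmul]
        show phi f η F (single f η F l p) l' ⊗ₜ[ℤ] r = 0
        rw [phi_single, Pi.single_eq_of_ne hne, zero_tmul]
      | add a b ha hb => rw [map_add, map_add, ha, hb, add_zero]
    have hid : ∀ y : (EtCoh.stalk l'.1).obj F ⊗[ℤ] G₀, (π l').rTensor G₀ ((sgl l').rTensor G₀ y) = y := by
      intro y
      induction y using TensorProduct.induction_on with
      | zero => rw [map_zero, map_zero]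
      | tmul p r =>
        rw [LinearMap.rTensor_tmul, LinearMap.rTensor_tmul]
        show phi f η F (single f η F l' p) l' ⊗ₜ[ℤ] r = p ⊗ₜ[ℤ] r
        rw [phi_single, Pi.single_eq_same]
      | add a b ha hb => rw [map_add, map_add, ha, hb]
    rw [map_sum]
    by_cases hl : l' ∈ S
    · rw [Finset.sum_eq_single l' (fun b _ hb => hδ b _ (Ne.symm hb)) (fun h => absurd hl h), hid,
        AddEquiv.apply_symm_apply]
    · rw [Finset.sum_eq_zero fun b hb => hδ b _ (fun h => hl (by rw [h]; exact hb)), map_zero]
      by_contra h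
      exact hl ((phi_finite_support f η (src f F G) q).mem_toFinset.2 (Ne.symm h))

omit η in
/-- The projection formula. -/
theorem nonempty_projection_formula :
    Nonempty ((EtTens.tensorBi.obj ((EtShriek.lowerShriek f).obj F)).obj G ≅
      (EtShriek.lowerShriek f).obj ((EtTens.tensorBi.obj F).obj ((EtCoh.pull f).obj G))) := by
  obtain ⟨Ψ, hΨ⟩ := exists_projection f F G
  haveI : IsIso Ψ := (EtStalk.isIso_iff_stalk_alg Ψ).2 fun K _ _ η => bijective_stalk_projection f F G η Ψ hΨ
  exact ⟨(EtTens.tensorBi.mapIso ((shIso f).app F)).app G ≪≫ asIso Ψ ≪≫ ((shIso f).app _).symm⟩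

end Groth.Agent.TensStalk24
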