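import Groth.Prelude.Def_EtTens2
import Groth.Agent.Lib.EtStalk.Basic

/-!
# Stalks of tensor products of abelian etale sheaves
-/

universe u

open CategoryTheory CategoryTheory.Limits AlgebraicGeometry Opposite TensorProduct

set_option backward.isDefEq.respectTransparency.types false

namespace Groth.Agent.TensStalk24

open Groth.Agent.EtStalk

variable {X : Scheme.{u}} (F G : EtCoh.Ab X)

/-- The tensor product presheaf. -/
noncomputable abbrev pre : X.Etaleᵒᵖ ⥤ AddCommGrpCat.{u + 1} := EtTens.tensorObj F.obj G.obj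

/-- The tensor product sheaf. -/
noncomputable abbrev ten : EtCoh.Ab X := (EtTens.tensorBi.obj F).obj G

/-- The map to the sheafified tensor product. -/
noncomputable def eta : pre F G ⟶ (ten F G).obj := toSheafify X.smallEtaleTopology (pre F G)

variable {Ω : Type u} [Field Ω] [IsSepClosed Ω] (ξ : Spec (CommRingCat.of Ω) ⟶ X)

local notation "Φ" => Scheme.pointSmallEtale ξ

/-- The common refinement of two etale neighbourhoods. -/
theorem exists_refine {U U' : X.Etale} (x : fib ξ U) (x' : fib ξ U') :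
    ∃ (W : X.Etale) (w : fib ξ W) (a : W ⟶ U) (b : W ⟶ U'),
      (Φ).fiber.map a w = x ∧ (Φ).fiber.map b w = x' := by
  obtain ⟨⟨W, w⟩, ⟨a, ha⟩, ⟨b, hb⟩, -⟩ :=
    IsCofilteredOrEmpty.cone_objs (C := (Φ).fiber.Elements) ⟨U, x⟩ ⟨U', x'⟩
  exact ⟨W, w, a, b, ha, hb⟩

/-- The fibre of the tensor presheaf maps to the tensor product of the stalks. -/
noncomputable def desc : (Φ).presheafFiber.obj (pre F G) ⟶
    AddCommGrpCat.of ((EtCoh.stalk ξ).obj F ⊗[ℤ] (EtCoh.stalk ξ).obj G) :=
  (Φ).presheafFiberDesc (P := pre F G)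
    (fun U x => AddCommGrpCat.ofHom
      (TensorProduct.map (germ ξ F x).hom.toIntLinearMap (germ ξ G x).hom.toIntLinearMap).toAddMonoidHom)
    (fun U V g x => EtTens.hom_ext_tmul fun m n => by
      show germ ξ F x (F.obj.map g.op m) ⊗ₜ[ℤ] germ ξ G x (G.obj.map g.op n) =
        germ ξ F ((Φ).fiber.map g x) m ⊗ₜ[ℤ] germ ξ G ((Φ).fiber.map g x) n
      rw [germ_map, germ_map])

theorem desc_tmul {U : X.Etale} (x : fib ξ U) (s : F.obj.obj (op U)) (g : G.obj.obj (op U)) :
    desc F G ξ ((Φ).toPresheafFiber U x (pre F G) (s ⊗ₜ g)) = germ ξ F x s ⊗ₜ[ℤ] germ ξ G x g :=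
  ConcreteCategory.congr_hom (GrothendieckTopology.Point.toPresheafFiber_presheafFiberDesc
    (Φ) (P := pre F G) _ _ U x) (s ⊗ₜ g)

theorem rep_congr {U U' : X.Etale} (x : fib ξ U) (x' : fib ξ U') (s : F.obj.obj (op U)) (g : G.obj.obj (op U))
    (s' : F.obj.obj (op U')) (g' : G.obj.obj (op U')) (hs : germ ξ F x s = germ ξ F x' s')
    (hg : germ ξ G x g = germ ξ G x' g') :
    (Φ).toPresheafFiber U x (pre F G) (s ⊗ₜ g) = (Φ).toPresheafFiber U' x' (pre F G) (s' ⊗ₜ g') := by
  obtain ⟨W, w, a, b, rfl, rfl⟩ := exists_refine ξ x x'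
  rw [← germ_map, ← germ_map] at hs hg
  obtain ⟨V₁, c₁, w₁, hw₁, hs₁⟩ := (germ_eq_iff ξ F w _ _).1 hs
  rw [← hw₁, ← germ_map, ← germ_map] at hg
  obtain ⟨V₂, c₂, w₂, hw₂, hg₂⟩ := (germ_eq_iff ξ G w₁ _ _).1 hg
  rw [← hw₁, ← hw₂]
  simp only [← GrothendieckTopology.Point.toPresheafFiber_w_apply, EtTens.tensorObj_map_tmul]
  rw [hg₂, hs₁]

theorem exists_rep (p : (EtCoh.stalk ξ).obj F) (q : (EtCoh.stalk ξ).obj G) :
    ∃ (U : X.Etale) (x : fib ξ U) (s : F.obj.obj (op U)) (g : G.obj.obj (op U)),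
      germ ξ F x s = p ∧ germ ξ G x g = q := by
  obtain ⟨U, x, s, rfl⟩ := germ_surjective ξ F p
  obtain ⟨U', x', g, rfl⟩ := germ_surjective ξ G q
  obtain ⟨W, w, a, b, rfl, rfl⟩ := exists_refine ξ x x'
  exact ⟨W, w, F.obj.map a.op s, G.obj.map b.op g, germ_map ξ F a w s, germ_map ξ G b w g⟩

/-- The bilinear map to the fibre of the tensor presheaf. -/
noncomputable def beta (p : (EtCoh.stalk ξ).obj F) (q : (EtCoh.stalk ξ).obj G) :
    ((Φ).presheafFiber.obj (pre F G) : AddCommGrpCat.{u + 1}) :=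
  let h := exists_rep F G ξ p q
  (Φ).toPresheafFiber h.choose h.choose_spec.choose (pre F G)
    (h.choose_spec.choose_spec.choose ⊗ₜ h.choose_spec.choose_spec.choose_spec.choose)

theorem beta_germ {U : X.Etale} (x : fib ξ U) (s : F.obj.obj (op U)) (g : G.obj.obj (op U)) :
    beta F G ξ (germ ξ F x s) (germ ξ G x g) = (Φ).toPresheafFiber U x (pre F G) (s ⊗ₜ g) := by
  have h := exists_rep F G ξ (germ ξ F x s) (germ ξ G x g)
  exact rep_congr F G ξ _ _ _ _ _ _ h.choose_spec.choose_spec.choose_spec.choose_spec.1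
    h.choose_spec.choose_spec.choose_spec.choose_spec.2

theorem beta_add_left (p p' : (EtCoh.stalk ξ).obj F) (q : (EtCoh.stalk ξ).obj G) :
    beta F G ξ (p + p') q = beta F G ξ p q + beta F G ξ p' q := by
  obtain ⟨U, x, s, g, rfl, rfl⟩ := exists_rep F G ξ p q
  obtain ⟨U', x', s', rfl⟩ := germ_surjective ξ F p'
  obtain ⟨W, w, a, b, rfl, rfl⟩ := exists_refine ξ x x'
  rw [← germ_map, ← germ_map, ← germ_map, ← map_add, beta_germ, beta_germ, beta_germ, add_tmul]
  exact map_add ((Φ).toPresheafFiber W w (pre F G)).hom _ _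

theorem beta_add_right (p : (EtCoh.stalk ξ).obj F) (q q' : (EtCoh.stalk ξ).obj G) :
    beta F G ξ p (q + q') = beta F G ξ p q + beta F G ξ p q' := by
  obtain ⟨U, x, s, g, rfl, rfl⟩ := exists_rep F G ξ p q
  obtain ⟨U', x', g', rfl⟩ := germ_surjective ξ G q'
  obtain ⟨W, w, a, b, rfl, rfl⟩ := exists_refine ξ x x'
  rw [← germ_map, ← germ_map, ← germ_map, ← map_add, beta_germ, beta_germ, beta_germ, tmul_add]
  exact map_add ((Φ).toPresheafFiber W w (pre F G)).hom _ _

theorem bijective_desc : Function.Bijective (desc F G ξ) := by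
  let B : (EtCoh.stalk ξ).obj F →+ (EtCoh.stalk ξ).obj G →+
      ((Φ).presheafFiber.obj (pre F G) : AddCommGrpCat.{u + 1}) :=
    AddMonoidHom.mk' (fun p => AddMonoidHom.mk' (beta F G ξ p) (beta_add_right F G ξ p))
      (fun p p' => AddMonoidHom.ext fun q => beta_add_left F G ξ p p' q)
  let E := TensorProduct.liftAddHom B (fun r p q => by
    rw [map_zsmul, AddMonoidHom.smul_apply, map_zsmul])
  have hE : ∀ z, E (desc F G ξ z) = z := by
    intro z
    obtain ⟨U, x, t, rfl⟩ := GrothendieckTopology.Point.toPresheafFiber_jointly_surjective (Φ) z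
    induction t using TensorProduct.induction_on with
    | zero =>
      let τ := ((Φ).toPresheafFiber U x (pre F G)).hom
      show E (desc F G ξ (τ 0)) = τ 0
      rw [map_zero τ, map_zero, map_zero]
    | tmul s g => rw [desc_tmul]; exact beta_germ F G ξ x s g
    | add a b ha hb =>
      let τ := ((Φ).toPresheafFiber U x (pre F G)).hom
      exact (congrArg (fun z => E (desc F G ξ z)) (map_add τ a b)).trans
        ((congrArg E (map_add (desc F G ξ).hom _ _)).trans ((map_add E _ _).trans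
          ((congrArg₂ (· + ·) ha hb).trans (map_add τ a b).symm)))
  refine ⟨Function.LeftInverse.injective hE, fun y => ?_⟩
  induction y using TensorProduct.induction_on with
  | zero => exact ⟨0, map_zero _⟩
  | tmul p q =>
    obtain ⟨U, x, s, g, rfl, rfl⟩ := exists_rep F G ξ p q
    exact ⟨_, desc_tmul F G ξ x s g⟩
  | add a b ha hb =>
    obtain ⟨a', rfl⟩ := ha
    obtain ⟨b', rfl⟩ := hb
    exact ⟨a' + b', map_add _ _ _⟩

theorem bijective_fiber_eta : Function.Bijective ((Φ).presheafFiber.map (eta F G)) :=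
  GrothendieckTopology.Point.toPresheafFiber_map_bijective (Φ) (toSheafify X.smallEtaleTopology (pre F G))

/-- The stalk of a tensor product is the tensor product of the stalks. -/
theorem exists_stalkTens :
    ∃ e : ((EtCoh.stalk ξ).obj (ten F G) : Type (u + 1)) ≃+ ((EtCoh.stalk ξ).obj F ⊗[ℤ] (EtCoh.stalk ξ).obj G),
      ∀ (U : X.Etale) (x : fib ξ U) (s : F.obj.obj (op U)) (g : G.obj.obj (op U)),
        e (germ ξ (ten F G) x ((eta F G).app (op U) (s ⊗ₜ g))) = germ ξ F x s ⊗ₜ[ℤ] germ ξ G x g := by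
  let e₁ := AddEquiv.ofBijective ((Φ).presheafFiber.map (eta F G)).hom (bijective_fiber_eta F G ξ)
  let e₂ := AddEquiv.ofBijective (desc F G ξ).hom (bijective_desc F G ξ)
  refine ⟨e₁.symm.trans e₂, fun U x s g => ?_⟩
  have h : germ ξ (ten F G) x ((eta F G).app (op U) (s ⊗ₜ g)) = e₁ ((Φ).toPresheafFiber U x (pre F G) (s ⊗ₜ g)) :=
    (GrothendieckTopology.Point.toPresheafFiber_naturality_apply _ (eta F G) U x (s ⊗ₜ g)).symm
  exact (congrArg e₂ ((congrArg e₁.symm h).trans (e₁.symm_apply_apply _))).trans (desc_tmul F G ξ x s g)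

end Groth.Agent.TensStalk24
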